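import Groth.Agent.AVLib.AmpleCrit
import Groth.Agent.AVLib.DivLine
import Groth.Agent.AVLib.GeomInt
import Groth.Agent.AmpleEmb.GenFinite
import Groth.Agent.S1684
import Groth.Agent.RegLocal.UFD
import Groth.Agent.ASp.GeomRedEt
import Groth.Agent.DVRCrit.Spread
import Groth.Agent.MonoFibre.Connected
import Groth.Agent.PoincareLib.PicKer

/-!
# Divisors disjoint from a curve
-/

set_option autoImplicit false
set_option backward.isDefEq.respectTransparency false
set_option linter.style.haveILetI false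
set_option synthInstance.maxHeartbeats 400000
set_option maxHeartbeats 1000000

universe u

open CategoryTheory CategoryTheory.Limits MonoidalCategory CartesianMonoidalCategory MonObj AlgebraicGeometry
open TopologicalSpace
open Groth.Agent.PicLib Groth.Agent.AmpleLib

noncomputable section

namespace Groth.Agent.AVTransLib

variable {K : Type u} [Field K] [IsAlgClosed K] {A : Over (Spec (CommRingCat.of K))} [GrpObj A]
  [IsProper A.hom] [GeometricallyIntegral A.hom]

theorem comp_trR_apply (a b : 𝟙_ (Over (Spec (CommRingCat.of K))) ⟶ A) : a ≫ AVLib.trR b = a * b := by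
  rw [AVLib.trR, MonObj.comp_mul, Category.comp_id, ← Category.assoc, toUnit_unique (a ≫ toUnit A) (𝟙 _),
    Category.id_comp]

/-- Translations of a curve either miss a divisor disjoint from it or send the curve into it. -/
theorem dichotomy {L : A.left.Modules} (hL : PicF.IsInvertible L) (σ : Coh.structureModule A.left ⟶ L)
    {V : Over (Spec (CommRingCat.of K))} [IsProper V.hom] [IsIntegral V.left] (i : V ⟶ A)
    (hdisj : ∀ p, i.left p ∈ CohB1.genLocus L σ) (z : 𝟙_ (Over (Spec (CommRingCat.of K))) ⟶ A) :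
    (∀ p, (i ≫ AVLib.trR z).left p ∈ CohB1.genLocus L σ) ∨ ∀ p, (i ≫ AVLib.trR z).left p ∉ CohB1.genLocus L σ := by
  haveI : Subsingleton ↥(Spec (CommRingCat.of K)) := inferInstanceAs (Subsingleton (PrimeSpectrum K))
  haveI : IsIntegral A.left := GeometricallyIntegral.isIntegral_of_subsingleton A.hom
  haveI : CompactSpace A.left := QuasiCompact.compactSpace_of_compactSpace A.hom
  haveI : LocallyOfFiniteType A.hom := inferInstance
  haveI : JacobsonSpace A.left := LocallyOfFiniteType.jacobsonSpace A.hom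
  haveI := AVLib.isCommMonObj (A := A)
  letI : CommGroup (𝟙_ (Over (Spec (CommRingCat.of K))) ⟶ A) := Hom.commGroup
  letI : CommGroup (A ⟶ A) := Hom.commGroup
  let pt : ↥(Spec (CommRingCat.of K)) := IsLocalRing.closedPoint K
  let G := CohB1.genLocus L σ
  let ψ : (𝟙_ (Over (Spec (CommRingCat.of K))) ⟶ A) → Pic V.left := fun a => pull (i ≫ AVLib.trR a).left (cls hL)
  have htriv : ∀ a, (∀ p, (i ≫ AVLib.trR a).left p ∈ G) → ψ a = 1 := by
    intro a ha
    show pull _ (cls hL) = 1
    rw [pull_cls, cls_eq_one]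
    have hg : CohB1.genLocus _ (pullS (i ≫ AVLib.trR a).left σ) = ⊤ := by
      rw [genLocus_pullS _ hL]
      exact eq_top_iff.2 fun p _ => ha p
    haveI := GenMorph.isIso_of_genLocus_eq_top (isInvertible_pullback _ hL) hg
    exact ⟨(asIso (pullS (i ≫ AVLib.trR a).left σ)).symm⟩
  have htr1 : AVLib.trR (1 : 𝟙_ (Over (Spec (CommRingCat.of K))) ⟶ A) = 𝟙 A := by
    rw [AVLib.trR, MonObj.comp_one, _root_.mul_one]
  have hone : ψ 1 = 1 := htriv 1 (by rw [htr1, Category.comp_id]; exact hdisj)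
  have hmul : ∀ a b, ψ (a * b) = ψ a * ψ b := fun a b => by
    have h := congrArg (pull i.left) (AVLib.square (cls hL) a b)
    rw [map_mul, map_mul, AVLib.pull_left_comp, AVLib.pull_left_comp, AVLib.pull_left_comp] at h
    rw [← h, show pull i.left (cls hL) = ψ 1 by show _ = pull _ _; rw [htr1, Category.comp_id], hone, _root_.mul_one]
  -- the translations sending the curve off the divisor
  let W : Set (V ⊗ A).left := ((fst V A ≫ i) * snd V A).left ⁻¹' (G : Set A.left)ᶜ
  let B : Set A.left := (snd V A).left '' W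
  haveI : IsProper (snd V A).left := MorphismProperty.pullback_snd (P := @IsProper) V.hom A.hom inferInstance
  have hB : IsClosed B := (snd V A).left.isClosedMap _ (G.2.isClosed_compl.preimage (Scheme.Hom.continuous _))
  have hgood : ∀ a : 𝟙_ (Over (Spec (CommRingCat.of K))) ⟶ A, a.left pt ∉ B → ψ a = 1 := by
    intro a ha
    refine htriv a fun p => by_contra fun hp => ha ⟨(lift (𝟙 V) (toUnit V ≫ a)).left p, ?_, ?_⟩
    · show ((fst V A ≫ i) * snd V A).left _ ∈ (G : Set A.left)ᶜ
      rw [← Scheme.Hom.comp_apply, ← Over.comp_left, MonObj.comp_mul, ← Category.assoc, lift_fst, lift_snd,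
        Category.id_comp, ← AVLib.comp_trR]
      exact hp
    · rw [← Scheme.Hom.comp_apply, ← Over.comp_left, lift_snd, Over.comp_left, Scheme.Hom.comp_apply]
      exact congrArg a.left (Subsingleton.elim (α := PrimeSpectrum K) _ _)
  have h1B : (1 : 𝟙_ (Over (Spec (CommRingCat.of K))) ⟶ A).left pt ∉ B := by
    rintro ⟨q, hq, hqs⟩
    obtain ⟨T, a, b, t, rfl, he⟩ := GrpSchLib.exists_lift (snd V A) (1 : 𝟙_ (Over (Spec (CommRingCat.of K))) ⟶ A) q
      ⟨pt, hqs.symm⟩
    apply hq
    show ((fst V A ≫ i) * snd V A).left (a.left t) ∈ G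
    rw [← Scheme.Hom.comp_apply, ← Over.comp_left, MonObj.comp_mul, he, MonObj.comp_one, _root_.mul_one,
      ← Category.assoc, Over.comp_left, Scheme.Hom.comp_apply]
    exact hdisj _
  have hall : ∀ a, ψ a = 1 := by
    intro a
    let f : A ⟶ A := (𝟙 A)⁻¹ ≫ AVLib.trR a
    have hf : ∀ z : 𝟙_ (Over (Spec (CommRingCat.of K))) ⟶ A, z ≫ f = z⁻¹ * a := fun z => by
      show z ≫ (𝟙 A)⁻¹ ≫ AVLib.trR a = _
      rw [← Category.assoc, GrpObj.comp_inv, Category.comp_id, comp_trR_apply]
    let U₁ : Set A.left := Bᶜ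
    have hU₁ : IsOpen U₁ := hB.isOpen_compl
    have hU₂ : IsOpen (f.left ⁻¹' U₁) := hU₁.preimage f.left.continuous
    have hne₂ : (f.left ⁻¹' U₁).Nonempty := ⟨a.left pt, by
      show f.left (a.left pt) ∉ B
      rw [← Scheme.Hom.comp_apply, ← Over.comp_left, hf, inv_mul_cancel]
      exact h1B⟩
    have hne : (U₁ ∩ f.left ⁻¹' U₁).Nonempty :=
      PreirreducibleSpace.isPreirreducible_univ (X := A.left) _ _ hU₁ hU₂ ⟨_, trivial, h1B⟩
        ⟨hne₂.some, trivial, hne₂.some_mem⟩ |>.mono fun z hz => hz.2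
    obtain ⟨z, ⟨hz₁, hz₂⟩, hzc⟩ := nonempty_inter_closedPoints hne (hU₁.inter hU₂).isLocallyClosed
    obtain ⟨q, rfl⟩ := AVLib.exists_ratPt hzc
    have h2 : ψ (q⁻¹ * a) = 1 := hgood _ (by rw [← hf q, Over.comp_left, Scheme.Hom.comp_apply]; exact hz₂)
    rw [show a = q * (q⁻¹ * a) by rw [mul_inv_cancel_left], hmul, h2, hgood q hz₁, _root_.mul_one]
  by_cases h : ∃ p, (i ≫ AVLib.trR z).left p ∈ G
  · left
    have h1 := hall z
    change pull _ (cls hL) = 1 at h1
    rw [pull_cls, cls_eq_one] at h1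
    obtain ⟨e⟩ := h1
    have h2 := AVLib.genLocus_eq_top_of_iso V.hom e.symm (pullS (i ≫ AVLib.trR z).left σ) (by
      obtain ⟨p, hp⟩ := h
      exact ⟨p, by rw [genLocus_pullS _ hL]; exact hp⟩)
    rw [genLocus_pullS _ hL] at h2
    exact fun p => h2.ge (trivial : p ∈ (⊤ : V.left.Opens))
  · exact Or.inr fun p hp => h ⟨p, hp⟩

omit [IsAlgClosed K] in
/-- An irreducible closed subset of codimension one is a Cartier divisor. -/
theorem exists_line [Smooth A.hom] (Δ : Set A.left) (hΔ : IsClosed Δ) (ξ : A.left) (hξ : closure {ξ} = Δ)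
    (hcodim : ringKrullDim (A.left.presheaf.stalk ξ) = 1) :
    ∃ (L : A.left.Modules) (σ : Coh.structureModule A.left ⟶ L), PicF.IsInvertible L ∧
      (CohB1.genLocus L σ : Set A.left) = Δᶜ := by
  haveI : Subsingleton ↥(Spec (CommRingCat.of K)) := inferInstanceAs (Subsingleton (PrimeSpectrum K))
  haveI : IsIntegral A.left := GeometricallyIntegral.isIntegral_of_subsingleton A.hom
  haveI : IsLocallyNoetherian A.left := LocallyOfFiniteType.isLocallyNoetherian A.hom
  haveI : A.left.IsSeparated := ⟨by rw [← terminal.comp_from A.hom]; infer_instance⟩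
  let Z : Closeds A.left := ⟨Δ, hΔ⟩
  let 𝓘 := Scheme.IdealSheafData.vanishingIdeal Z
  haveI : IsReduced 𝓘.subscheme := DVRCrit.isReduced_vanishingIdeal Z
  have hr : Set.range 𝓘.subschemeι = Δ := by
    rw [Scheme.IdealSheafData.range_subschemeι, Scheme.IdealSheafData.coe_support_vanishingIdeal]
    rfl
  haveI : IrreducibleSpace 𝓘.subscheme := by
    refine 𝓘.subschemeι.isEmbedding.toHomeomorph.irreducibleSpace_iff.mpr (isIrreducible_iff_irreducibleSpace.mp ?_)
    rw [hr, ← hξ]
    exact isIrreducible_singleton.closure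
  haveI : IsIntegral 𝓘.subscheme := isIntegral_of_irreducibleSpace_of_isReduced _
  have hgen : 𝓘.subschemeι (genericPoint ↥𝓘.subscheme) = ξ := by
    have h1 := (genericPoint_spec ↥𝓘.subscheme).image 𝓘.subschemeι.continuous
    rw [Set.image_univ, hr, hΔ.closure_eq] at h1
    exact h1.eq hξ
  have hD := S1684.result A.left 𝓘 (by rw [hgen]; exact hcodim) fun x _ => by
    haveI := ASp.isRegularLocalRing_stalk_of_smooth_field A.hom x
    exact ⟨inferInstance, RegLocal.ufd _⟩
  obtain ⟨L, σ, hL, hσ⟩ := AVLib.exists_line_of_effCartier hD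
  exact ⟨L, σ, hL, by rw [hσ]; show (𝓘.support : Set A.left)ᶜ = _; rw [Scheme.IdealSheafData.coe_support_vanishingIdeal]; rfl⟩

/-- Translation by the difference of two points of a curve disjoint from a divisor maps the divisor into
itself. -/
theorem subset_preimage {L : A.left.Modules} (hL : PicF.IsInvertible L) (σ : Coh.structureModule A.left ⟶ L)
    (Δ : Set A.left) (hΔ : IsClosed Δ) (hG : (CohB1.genLocus L σ : Set A.left) = Δᶜ)
    {V : Over (Spec (CommRingCat.of K))} [IsProper V.hom] [IsIntegral V.left] (i : V ⟶ A)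
    (hdis : ∀ p, i.left p ∈ CohB1.genLocus L σ) (x y : 𝟙_ (Over (Spec (CommRingCat.of K))) ⟶ A)
    (px py : V.left) (hpx : i.left px = x.left (IsLocalRing.closedPoint K))
    (hpy : i.left py = y.left (IsLocalRing.closedPoint K)) :
    Δ ⊆ (AVLib.trR (x * y⁻¹)).left ⁻¹' Δ := by
  haveI := AVLib.isCommMonObj (A := A)
  letI : CommGroup (𝟙_ (Over (Spec (CommRingCat.of K))) ⟶ A) := Hom.commGroup
  haveI : LocallyOfFiniteType A.hom := inferInstance
  haveI : JacobsonSpace A.left := LocallyOfFiniteType.jacobsonSpace A.hom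
  have hcl : IsClosed ((AVLib.trR (x * y⁻¹)).left ⁻¹' Δ) := hΔ.preimage (Scheme.Hom.continuous _)
  have hev : ∀ (u : 𝟙_ (Over (Spec (CommRingCat.of K))) ⟶ A) (p : V.left),
      i.left p = u.left (IsLocalRing.closedPoint K) →
      ∀ z, (i ≫ AVLib.trR z).left p = (u * z).left (IsLocalRing.closedPoint K) := fun u p h z => by
    rw [← comp_trR_apply, Over.comp_left, Over.comp_left, Scheme.Hom.comp_apply, Scheme.Hom.comp_apply, h]
  have hsub : Δ ∩ closedPoints A.left ⊆ (AVLib.trR (x * y⁻¹)).left ⁻¹' Δ := by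
    rintro d ⟨hd, hdc⟩
    obtain ⟨d, rfl⟩ := AVLib.exists_ratPt hdc
    rw [Set.mem_preimage, ← Scheme.Hom.comp_apply, ← Over.comp_left, comp_trR_apply]
    rcases dichotomy hL σ i hdis (d * y⁻¹) with h | h
    · have h1 := h py
      rw [hev y py hpy, mul_comm d, mul_inv_cancel_left, ← SetLike.mem_coe, hG] at h1
      exact (h1 hd).elim
    · have h1 := h px
      rw [hev x px hpx, ← SetLike.mem_coe, hG, Set.mem_compl_iff, not_not] at h1
      rwa [mul_left_comm]
  have h2 := closure_minimal hsub hcl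
  rw [JacobsonSpace.closure_inter_closedPoints_eq_closure hΔ.isLocallyClosed, hΔ.closure_eq] at h2
  exact h2

/-- A difference of two points of a curve disjoint from a divisor preserves the divisor. -/
theorem preimage_eq [Smooth A.hom] (Δ : Set A.left) (hΔ : IsClosed Δ) (ξ : A.left) (hξ : closure {ξ} = Δ)
    (hcodim : ringKrullDim (A.left.presheaf.stalk ξ) = 1) (C : Set A.left) (hC : IsClosed C)
    (hCirr : IsIrreducible C) (hdisj : Disjoint C Δ) (x y : 𝟙_ (Over (Spec (CommRingCat.of K))) ⟶ A)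
    (hx : Set.range x.left.base ⊆ C) (hy : Set.range y.left.base ⊆ C) :
    (𝟙 A * (toUnit A ≫ (x * y⁻¹))).left.base ⁻¹' Δ = Δ := by
  obtain ⟨L, σ, hL, hG⟩ := exists_line Δ hΔ ξ hξ hcodim
  haveI := AVLib.isCommMonObj (A := A)
  let Z : Closeds A.left := ⟨C, hC⟩
  obtain ⟨V, i, hr, hci, hred⟩ : ∃ (V : Over (Spec (CommRingCat.of K))) (i : V ⟶ A), Set.range i.left = C ∧
      IsClosedImmersion i.left ∧ IsReduced V.left :=
    ⟨Over.mk ((Scheme.IdealSheafData.vanishingIdeal Z).subschemeι ≫ A.hom),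
      Over.homMk (Scheme.IdealSheafData.vanishingIdeal Z).subschemeι rfl, by
        show Set.range (Scheme.IdealSheafData.vanishingIdeal Z).subschemeι = C
        rw [Scheme.IdealSheafData.range_subschemeι, Scheme.IdealSheafData.coe_support_vanishingIdeal]
        rfl,
      inferInstanceAs (IsClosedImmersion (Scheme.IdealSheafData.vanishingIdeal Z).subschemeι),
      DVRCrit.isReduced_vanishingIdeal Z⟩
  haveI := hci
  haveI := hred
  haveI : IrreducibleSpace V.left := by
    refine i.left.isEmbedding.toHomeomorph.irreducibleSpace_iff.mpr (isIrreducible_iff_irreducibleSpace.mp ?_)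
    rw [hr]
    exact hCirr
  haveI : IsIntegral V.left := isIntegral_of_irreducibleSpace_of_isReduced _
  haveI : IsProper V.hom := by rw [← Over.w i]; infer_instance
  have hdis : ∀ p, i.left p ∈ CohB1.genLocus L σ := fun p => by
    rw [← SetLike.mem_coe, hG]
    exact Set.disjoint_left.1 hdisj (hr.le ⟨p, rfl⟩)
  obtain ⟨px, hpx⟩ := hr.ge (hx ⟨IsLocalRing.closedPoint K, rfl⟩)
  obtain ⟨py, hpy⟩ := hr.ge (hy ⟨IsLocalRing.closedPoint K, rfl⟩)
  refine Set.Subset.antisymm (fun w hw => ?_) (subset_preimage hL σ Δ hΔ hG i hdis x y px py hpx hpy)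
  have h := subset_preimage hL σ Δ hΔ hG i hdis y x py px hpy hpx hw
  have e : AVLib.trR (x * y⁻¹) ≫ AVLib.trR (y * x⁻¹) = 𝟙 A := by
    rw [PoincareLib.trR_comp_trR, _root_.mul_assoc, inv_mul_cancel_left, mul_inv_cancel, AVLib.trR, MonObj.comp_one,
      _root_.mul_one]
  rw [Set.mem_preimage] at h
  have h3 : (AVLib.trR (x * y⁻¹) ≫ AVLib.trR (y * x⁻¹)).left w ∈ Δ := by
    rw [Over.comp_left, Scheme.Hom.comp_apply]
    exact h
  rw [e] at h3
  exact h3

end Groth.Agent.AVTransLib
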